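import Groth.Agent.CommAlg6.FieldTensor
import Mathlib.RingTheory.Finiteness.Basic
import Mathlib.AlgebraicGeometry.Morphisms.FiniteType

/-! Cohen–Macaulay local rings and extension of the base field. -/

universe u

set_option autoImplicit false

open TensorProduct IsLocalRing

namespace Groth.Agent.CMBC25

theorem isCM_ringEquiv {R S : Type u} [CommRing R] [CommRing S] (e : R ≃+* S)
    (h : LocCoh.IsCohenMacaulayLocalRing R) : LocCoh.IsCohenMacaulayLocalRing S := by
  have := isNoetherianRing_of_ringEquiv R e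
  have := e.isLocalRing
  rw [CAlgH3.isCohenMacaulayLocalRing_iff_depth] at h ⊢
  rwa [← ringKrullDim_eq_of_ringEquiv e, ← CAlgH3.depth_ringEquiv e]

theorem isCM_ringEquiv_iff {R S : Type u} [CommRing R] [CommRing S] (e : R ≃+* S) :
    LocCoh.IsCohenMacaulayLocalRing R ↔ LocCoh.IsCohenMacaulayLocalRing S :=
  ⟨isCM_ringEquiv e, isCM_ringEquiv e.symm⟩

/-- A prime of `S ⊗_k K` is a Cohen–Macaulay point iff its trace on `S` is one. -/
theorem isCM_tensor_field_iff (k S K : Type u) [Field k] [CommRing S] [Algebra k S] [Algebra.FiniteType k S]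
    [Field K] [Algebra k K] (Q : Ideal (S ⊗[k] K)) [Q.IsPrime] :
    LocCoh.IsCohenMacaulayLocalRing (Localization.AtPrime Q) ↔
      LocCoh.IsCohenMacaulayLocalRing (Localization.AtPrime (Q.comap (algebraMap S (S ⊗[k] K)))) := by
  have : IsNoetherianRing S := Algebra.FiniteType.isNoetherianRing k S
  have : IsNoetherianRing (K ⊗[k] S) := Algebra.FiniteType.isNoetherianRing K _
  have : IsNoetherianRing (S ⊗[k] K) :=
    isNoetherianRing_of_ringEquiv _ (Algebra.TensorProduct.comm k K S).toRingEquiv
  have h := CommAlg6.codepth_eq_of_cm_fibres (A := S)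
    (fun p _ => CommAlg6.isCM_fiber_tensor_field k S K p) Q
  rw [CAlgH3.isCohenMacaulayLocalRing_iff_depth, CAlgH3.isCohenMacaulayLocalRing_iff_depth]
  obtain ⟨a, ha⟩ := CAlgH3.exists_depth_eq_natCast (R := Localization.AtPrime Q) (M := Localization.AtPrime Q)
  obtain ⟨b, hb⟩ := CAlgH3.exists_depth_eq_natCast
    (R := Localization.AtPrime (Q.comap (algebraMap S (S ⊗[k] K))))
    (M := Localization.AtPrime (Q.comap (algebraMap S (S ⊗[k] K))))
  obtain ⟨c, hc⟩ := CommAlg6.exists_dim_eq (Localization.AtPrime Q)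
  obtain ⟨d, hd⟩ := CommAlg6.exists_dim_eq (Localization.AtPrime (Q.comap (algebraMap S (S ⊗[k] K))))
  rw [ha, hb, hc, hd] at h ⊢
  rw [← WithBot.coe_add, ← WithBot.coe_add, WithBot.coe_inj] at h
  rw [WithBot.coe_inj, WithBot.coe_inj]
  induction c using ENat.recTopCoe with
  | top =>
    induction d using ENat.recTopCoe with
    | top => simp
    | coe d => rw [top_add, ← Nat.cast_add] at h; exact absurd h (ENat.natCast_ne_top _)
  | coe c =>
    induction d using ENat.recTopCoe with
    | top => rw [top_add, ← Nat.cast_add] at h; exact absurd h.symm (ENat.natCast_ne_top _)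
    | coe d => norm_cast at h ⊢; omega

theorem isCM_of_minimal {S : Type u} [CommRing S] [IsNoetherianRing S] (P : Ideal S) [P.IsPrime]
    (hP : P ∈ minimalPrimes S) : LocCoh.IsCohenMacaulayLocalRing (Localization.AtPrime P) := by
  rw [CAlgH3.isCohenMacaulayLocalRing_iff_depth]
  have h0 : ringKrullDim (Localization.AtPrime P) = 0 := by
    rw [IsLocalization.AtPrime.ringKrullDim_eq_height P (Localization.AtPrime P),
      Ideal.height_eq_zero_iff.2 hP]
    rfl
  have h := CAlgH3.depth_le_supportDim (R := Localization.AtPrime P) (M := Localization.AtPrime P)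
  rw [Module.supportDim_self_eq_ringKrullDim, h0] at h
  rw [h0]
  exact le_antisymm (WithBot.coe_le_coe.2 zero_le') h

end Groth.Agent.CMBC25
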