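import Groth.Agent.CMBC25.Scheme
import Groth.Agent.FlatMor12.CMMor
import Mathlib.AlgebraicGeometry.Morphisms.FinitePresentation

/-! Cohen–Macaulay points of fibres: base change and density. -/

universe u

set_option autoImplicit false
set_option backward.isDefEq.respectTransparency.types false

open CategoryTheory CategoryTheory.Limits AlgebraicGeometry IsLocalRing

namespace Groth.Agent.CMBC25

/-- The local ring of the fibre through `x` is Cohen–Macaulay. -/
def FibCM {X Y : Scheme.{u}} (f : X ⟶ Y) (x : X) : Prop :=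
  LocCoh.IsCohenMacaulayLocalRing
    (X.presheaf.stalk x ⧸ (maximalIdeal (Y.presheaf.stalk (f x))).map (f.stalkMap x).hom)

theorem isCM_fiber_stalk_iff {X Y : Scheme.{u}} (f : X ⟶ Y) (y : Y) (z : f.fiber y) :
    LocCoh.IsCohenMacaulayLocalRing ((f.fiber y).presheaf.stalk z) ↔ FibCM f (f.fiberι y z) := by
  obtain ⟨h1, h2⟩ := Props12.stalkMap_fiberι f y z
  exact isCM_ringEquiv_iff ((Ideal.quotEquivOfEq h2.symm).trans (RingHom.quotientKerEquivOfSurjective h1)).symm

theorem fibCM_iff_of_isPullback {X Y X' Y' : Scheme.{u}} {f : X ⟶ Y} [LocallyOfFiniteType f] {f' : X' ⟶ Y'}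
    {g' : X' ⟶ X} {g : Y' ⟶ Y} (hc : IsPullback g' f' f g) (x' : X') : FibCM f' x' ↔ FibCM f (g' x') := by
  let y' := f' x'
  have hp := isPullback_fiberToSpecResidueField_of_isPullback hc y'
  have h := @isCM_stalk_field_baseChange _ _ (Field.toIsField (Y.residueField (g y')))
    (Field.toIsField (Y'.residueField y')) (g.residueFieldMap y') _ _ _ _ _
    (MorphismProperty.pullback_snd (P := @LocallyOfFiniteType) f (Y.fromSpecResidueField (g y')) ‹_›) hp
    (f'.asFiber x')
  refine Iff.trans ?_ (h.trans ((isCM_fiber_stalk_iff f (g y') _).trans ?_))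
  · exact ((isCM_fiber_stalk_iff f' y' (f'.asFiber x')).trans
      (Iff.of_eq (congrArg (FibCM f') (f'.fiberι_asFiber x')))).symm
  have e : f.fiberι (g y') ((pullback.map _ _ _ _ g' (Spec.map (g.residueFieldMap y')) g hc.w.symm (by simp) :
      f'.fiber y' ⟶ f.fiber (g y')) (f'.asFiber x')) = g' x' := by
    refine (Scheme.Hom.comp_apply _ _ _).symm.trans ((congrArg (fun r : f'.fiber y' ⟶ X => r (f'.asFiber x'))
      (pullback.lift_fst _ _ _)).trans ((Scheme.Hom.comp_apply _ _ _).trans ?_))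
    exact congrArg g' (f'.fiberι_asFiber x')
  exact Iff.of_eq (congrArg (FibCM f) e)

/-- Over a field, every non-empty open of a scheme locally of finite type has a Cohen–Macaulay point. -/
theorem exists_isCM_stalk {k : CommRingCat.{u}} (hk : IsField k) {F : Scheme.{u}} (q : F ⟶ Spec k)
    [LocallyOfFiniteType q] (V : F.Opens) (hV : (V : Set F).Nonempty) :
    ∃ z ∈ V, LocCoh.IsCohenMacaulayLocalRing (F.presheaf.stalk z) := by
  obtain ⟨z₀, hz₀⟩ := hV
  obtain ⟨U, hU, hzU, hUV⟩ := exists_isAffineOpen_mem_and_subset (x := z₀) (U := V) hz₀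
  let _ : Field k := hk.toField
  have : IsNoetherianRing Γ(F, U) := by
    have := LocallyOfFiniteType.isLocallyNoetherian q
    exact IsLocallyNoetherian.component_noetherian ⟨U, hU⟩
  have : Nontrivial Γ(F, U) :=
    PrimeSpectrum.nonempty_iff_nontrivial.1 ⟨hU.isoSpec.hom ⟨z₀, hzU⟩⟩
  obtain ⟨P, hP⟩ := Ideal.nonempty_minimalPrimes (I := (⊥ : Ideal Γ(F, U))) bot_ne_top
  have := hP.1.1
  let p : Spec Γ(F, U) := ⟨P, this⟩
  refine ⟨hU.fromSpec p, hUV (hU.range_fromSpec.subset ⟨p, rfl⟩), ?_⟩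
  rw [← isCM_stalk_openImm hU.fromSpec p, isCM_stalk_spec]
  exact isCM_of_minimal P hP

theorem dense_fibCM {X Y : Scheme.{u}} (f : X ⟶ Y) [LocallyOfFiniteType f] (y : Y) :
    Dense (f.fiberι y ⁻¹' {x | FibCM f x}) := by
  rw [dense_iff_inter_open]
  intro V hV hne
  have : LocallyOfFiniteType (f.fiberToSpecResidueField y) :=
    inferInstanceAs (LocallyOfFiniteType (pullback.snd f (Y.fromSpecResidueField y)))
  obtain ⟨z, hz, hcm⟩ := exists_isCM_stalk (Field.toIsField (Y.residueField y))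
    (f.fiberToSpecResidueField y) ⟨V, hV⟩ hne
  exact ⟨z, hz, (isCM_fiber_stalk_iff f y z).1 hcm⟩

theorem moreMor_isCMAt_iff {X Y : Scheme.{u}} (f : X ⟶ Y) (x : X) :
    MoreMor.IsCMAt f x ↔ (f.stalkMap x).hom.Flat ∧ FibCM f x :=
  FlatMor12.isCMAt_iff f x

end Groth.Agent.CMBC25
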