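import Groth.Agent.CMBC25.Field
import Groth.Agent.Props12.Stalks
import Mathlib.AlgebraicGeometry.Fiber
import Mathlib.AlgebraicGeometry.Morphisms.FiniteType

/-! The Cohen–Macaulay locus of the fibres is compatible with base change. -/

universe u

set_option autoImplicit false
set_option backward.isDefEq.respectTransparency.types false

open CategoryTheory CategoryTheory.Limits AlgebraicGeometry IsLocalRing TensorProduct

namespace Groth.Agent.CMBC25

theorem isCM_stalk_openImm {A B : Scheme.{u}} (j : A ⟶ B) [IsOpenImmersion j] (a : A) :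
    LocCoh.IsCohenMacaulayLocalRing (A.presheaf.stalk a) ↔
      LocCoh.IsCohenMacaulayLocalRing (B.presheaf.stalk (j a)) :=
  (isCM_ringEquiv_iff (asIso (j.stalkMap a)).commRingCatIsoToRingEquiv).symm

theorem isCM_stalk_spec (R : CommRingCat.{u}) (P : Spec R) :
    LocCoh.IsCohenMacaulayLocalRing ((Spec R).presheaf.stalk P) ↔
      LocCoh.IsCohenMacaulayLocalRing (Localization.AtPrime P.asIdeal) :=
  letI : Algebra R ((Spec R).presheaf.stalk P) := StructureSheaf.stalkAlgebra R P
  haveI : IsLocalization.AtPrime ((Spec R).presheaf.stalk P) P.asIdeal :=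
    StructureSheaf.IsLocalization.to_stalk R P
  isCM_ringEquiv_iff
    (IsLocalization.algEquiv P.asIdeal.primeCompl ((Spec R).presheaf.stalk P)
      (Localization.AtPrime P.asIdeal)).toRingEquiv

/-- Cohen–Macaulay points of a scheme locally of finite type over a field and extension of the field. -/
theorem isCM_stalk_field_baseChange {k K : CommRingCat.{u}} (hk : IsField k) (hK : IsField K) (φ : k ⟶ K)
    {F F' : Scheme.{u}} {h : F' ⟶ F} {q' : F' ⟶ Spec K} {q : F ⟶ Spec k} [LocallyOfFiniteType q]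
    (hp : IsPullback h q' q (Spec.map φ)) (z' : F') :
    LocCoh.IsCohenMacaulayLocalRing (F'.presheaf.stalk z') ↔
      LocCoh.IsCohenMacaulayLocalRing (F.presheaf.stalk (h z')) := by
  obtain ⟨U, hU, hzU, -⟩ := exists_isAffineOpen_mem_and_subset (x := h z') (U := ⊤) trivial
  let S : CommRingCat.{u} := Γ(F, U)
  let j : Spec S ⟶ F := hU.fromSpec
  obtain ⟨ψ, hψ⟩ : ∃ ψ : k ⟶ S, Spec.map ψ = j ≫ q := ⟨Spec.preimage _, Spec.map_preimage _⟩
  let _ : Algebra k S := ψ.hom.toAlgebra
  let _ : Algebra k K := φ.hom.toAlgebra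
  let _ : Field k := hk.toField
  let _ : Field K := hK.toField
  have : Algebra.FiniteType k S := by
    have h1 : LocallyOfFiniteType (Spec.map ψ) := by rw [hψ]; infer_instance
    exact (HasRingHomProperty.Spec_iff (P := @LocallyOfFiniteType)).1 h1
  let eS : pullback (Spec.map (CommRingCat.ofHom (algebraMap k S)))
      (Spec.map (CommRingCat.ofHom (algebraMap k K))) ≅ Spec (.of (S ⊗[k] K)) := pullbackSpecIso k S K
  have hP : IsPullback (pullback.fst (Spec.map ψ) (Spec.map φ)) (pullback.snd (Spec.map ψ) (Spec.map φ))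
      (j ≫ q) (Spec.map φ) := hψ ▸ IsPullback.of_hasPullback _ _
  let m : pullback (Spec.map ψ) (Spec.map φ) ⟶ F' :=
    hp.lift (pullback.fst _ _ ≫ j) (pullback.snd _ _) (by rw [Category.assoc]; exact hP.w)
  have hm : IsPullback (pullback.fst (Spec.map ψ) (Spec.map φ)) m j h := IsPullback.of_bot' hP hp
  have hmo : IsOpenImmersion m := MorphismProperty.of_isPullback (P := @IsOpenImmersion) hm inferInstance
  obtain ⟨a, ha⟩ : h z' ∈ Set.range j := by rw [IsAffineOpen.range_fromSpec]; exact hzU
  obtain ⟨w, hw1, hw2⟩ := Scheme.exists_preimage_of_isPullback hm a z' ha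
  subst hw2
  rw [← ha, ← hw1]
  clear ha hw1 hzU
  rw [← isCM_stalk_openImm m w, ← isCM_stalk_openImm j (pullback.fst (Spec.map ψ) (Spec.map φ) w),
    isCM_stalk_spec S]
  refine ((isCM_stalk_openImm eS.hom w).trans
    ((isCM_stalk_spec _ _).trans (isCM_tensor_field_iff (↑k) (↑S) (↑K) (eS.hom w).asIdeal))).trans ?_
  have e : Spec.map (CommRingCat.ofHom (algebraMap S (S ⊗[k] K))) (eS.hom w) =
      pullback.fst (Spec.map ψ) (Spec.map φ) w := by
    rw [← Scheme.Hom.comp_apply]
    exact congrArg (fun r : pullback (Spec.map ψ) (Spec.map φ) ⟶ Spec S => r w) (pullbackSpecIso_hom_fst' k S K)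
  rw [← e]
  rfl

end Groth.Agent.CMBC25
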